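import Cfsg.Prelude.Def_MonsterType

/-!
The wreath product of the alternating group of degree five by a group of order two.
-/

set_option autoImplicit false
set_option maxRecDepth 100000

namespace CfsgLib.Spor.Loc.Five

open Cfsg Equiv

/-- four permutations generating the alternating group -/
def baseC : Fin 4 → Perm (Fin 5) :=
  ![finRotate 5, swap 0 1 * swap 2 3, swap 0 2 * swap 1 3, swap 0 1 * swap 1 2]

/-- the product with the given exponents -/
def a5Of (i : Fin 5) (j k : Fin 2) (l : Fin 3) : Perm (Fin 5) :=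
  baseC 0 ^ (i : ℕ) * baseC 1 ^ (j : ℕ) * baseC 2 ^ (k : ℕ) * baseC 3 ^ (l : ℕ)

theorem baseC_even (c : Fin 4) : baseC c ∈ alternatingGroup (Fin 5) := by
  revert c
  simp only [Equiv.Perm.mem_alternatingGroup]
  decide +kernel

theorem a5Of_even (i : Fin 5) (j k : Fin 2) (l : Fin 3) :
    a5Of i j k l ∈ alternatingGroup (Fin 5) :=
  mul_mem (mul_mem (mul_mem (pow_mem (baseC_even 0) _) (pow_mem (baseC_even 1) _))
    (pow_mem (baseC_even 2) _)) (pow_mem (baseC_even 3) _)

theorem exists_a5Of {x : Perm (Fin 5)} (hx : x ∈ alternatingGroup (Fin 5)) :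
    ∃ i j k l, x = a5Of i j k l := by
  have hinj : Function.Injective fun t : Fin 5 × Fin 2 × Fin 2 × Fin 3 =>
      (⟨a5Of t.1 t.2.1 t.2.2.1 t.2.2.2, a5Of_even _ _ _ _⟩ : alternatingGroup (Fin 5)) := by
    intro s t h
    have h' : a5Of s.1 s.2.1 s.2.2.1 s.2.2.2 = a5Of t.1 t.2.1 t.2.2.1 t.2.2.2 :=
      congrArg Subtype.val h
    revert s t
    have key : ∀ s t : Fin 5 × Fin 2 × Fin 2 × Fin 3,
        (∀ p, a5Of s.1 s.2.1 s.2.2.1 s.2.2.2 p = a5Of t.1 t.2.1 t.2.2.1 t.2.2.2 p) → s = t := by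
      decide +kernel
    exact fun s t _ h' => key s t fun p => by rw [h']
  have hb := (Nat.bijective_iff_injective_and_card _).2 ⟨hinj, by
    rw [nat_card_alternatingGroup]
    simp [Nat.factorial]⟩
  obtain ⟨⟨i, j, k, l⟩, h⟩ := hb.2 ⟨x, hx⟩
  exact ⟨i, j, k, l, (congrArg Subtype.val h).symm⟩

/-- the base group pair -/
def pairP (a b : Perm (Fin 5)) : Perm (Fin 5 ⊕ Fin 5) := Equiv.Perm.sumCongr a b

/-- the swap of the two summands -/
def swapP : Perm (Fin 5 ⊕ Fin 5) := Equiv.sumComm (Fin 5) (Fin 5)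

theorem pairP_mul (a b c d : Perm (Fin 5)) : pairP a b * pairP c d = pairP (a * c) (b * d) :=
  Equiv.Perm.sumCongr_mul a b c d

theorem swapP_pairP (a b : Perm (Fin 5)) : swapP * pairP a b = pairP b a * swapP := by
  ext x
  cases x <;> rfl

theorem swapP_sq : swapP * swapP = 1 := by
  ext x
  cases x <;> rfl

theorem pairP_mem {a b : Perm (Fin 5)} (ha : a ∈ alternatingGroup (Fin 5))
    (hb : b ∈ alternatingGroup (Fin 5)) : pairP a b ∈ alternatingFiveWreathTwo :=
  Subgroup.subset_closure (Or.inl ⟨⟨a, ha⟩, ⟨b, hb⟩, rfl⟩)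

theorem swapP_mem : swapP ∈ alternatingFiveWreathTwo :=
  Subgroup.subset_closure (Or.inr rfl)

/-- a subgroup with the swap and the first factor generators contains the wreath product -/
theorem wreath_le {K : Subgroup (Perm (Fin 5 ⊕ Fin 5))} (hs : swapP ∈ K)
    (hc : ∀ c, pairP (baseC c) 1 ∈ K) : alternatingFiveWreathTwo ≤ K := by
  have h1 : ∀ a ∈ alternatingGroup (Fin 5), pairP a 1 ∈ K := by
    intro a ha
    obtain ⟨i, j, k, l, rfl⟩ := exists_a5Of ha
    let f : Perm (Fin 5) →* Perm (Fin 5 ⊕ Fin 5) :=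
      MonoidHom.mk' (fun a => pairP a 1) fun a b => by rw [pairP_mul, one_mul]
    have hc' : ∀ c, baseC c ∈ K.comap f := hc
    show a5Of i j k l ∈ K.comap f
    exact mul_mem (mul_mem (mul_mem (pow_mem (hc' 0) _) (pow_mem (hc' 1) _)) (pow_mem (hc' 2) _))
      (pow_mem (hc' 3) _)
  rw [alternatingFiveWreathTwo, Subgroup.closure_le]
  rintro g (⟨σ, τ, rfl⟩ | rfl)
  · show pairP σ τ ∈ K
    have h2 : pairP 1 τ = swapP * pairP τ 1 * swapP := by
      rw [swapP_pairP, mul_assoc, swapP_sq, mul_one]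
    rw [show pairP σ τ = pairP σ 1 * pairP 1 τ by rw [pairP_mul, mul_one, one_mul], h2]
    exact mul_mem (h1 _ σ.2) (mul_mem (mul_mem hs (h1 _ τ.2)) hs)
  · exact hs

/-- the shape of the elements -/
theorem mem_wreath_iff {g : Perm (Fin 5 ⊕ Fin 5)} : g ∈ alternatingFiveWreathTwo ↔
    ∃ a ∈ alternatingGroup (Fin 5), ∃ b ∈ alternatingGroup (Fin 5),
      g = pairP a b ∨ g = pairP a b * swapP := by
  constructor
  · intro hg
    rw [alternatingFiveWreathTwo] at hg
    induction hg using Subgroup.closure_induction with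
    | mem x hx =>
      rcases hx with ⟨σ, τ, rfl⟩ | rfl
      · exact ⟨σ, σ.2, τ, τ.2, Or.inl rfl⟩
      · exact ⟨1, one_mem _, 1, one_mem _, Or.inr (by
          show swapP = _
          rw [show pairP 1 1 = 1 from Equiv.Perm.sumCongr_one, one_mul])⟩
    | one => exact ⟨1, one_mem _, 1, one_mem _, Or.inl Equiv.Perm.sumCongr_one.symm⟩
    | mul x y _ _ hx hy =>
      obtain ⟨a, ha, b, hb, hx⟩ := hx
      obtain ⟨c, hc, d, hd, hy⟩ := hy
      rcases hx with rfl | rfl <;> rcases hy with rfl | rfl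
      · exact ⟨a * c, mul_mem ha hc, b * d, mul_mem hb hd, Or.inl (pairP_mul _ _ _ _)⟩
      · exact ⟨a * c, mul_mem ha hc, b * d, mul_mem hb hd,
          Or.inr (by rw [← mul_assoc, pairP_mul])⟩
      · exact ⟨a * d, mul_mem ha hd, b * c, mul_mem hb hc,
          Or.inr (by rw [mul_assoc, swapP_pairP, ← mul_assoc, pairP_mul])⟩
      · exact ⟨a * d, mul_mem ha hd, b * c, mul_mem hb hc,
          Or.inl (by rw [mul_assoc, ← mul_assoc swapP, swapP_pairP, mul_assoc (pairP d c),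
            swapP_sq, mul_one, pairP_mul])⟩
    | inv x _ hx =>
      obtain ⟨a, ha, b, hb, hx⟩ := hx
      rcases hx with rfl | rfl
      · exact ⟨a⁻¹, inv_mem ha, b⁻¹, inv_mem hb, Or.inl (Equiv.Perm.sumCongr_inv a b)⟩
      · refine ⟨b⁻¹, inv_mem hb, a⁻¹, inv_mem ha, Or.inr ?_⟩
        rw [mul_inv_rev, inv_eq_of_mul_eq_one_right swapP_sq,
          show (pairP a b)⁻¹ = pairP a⁻¹ b⁻¹ from Equiv.Perm.sumCongr_inv a b, swapP_pairP]
  · rintro ⟨a, ha, b, hb, rfl | rfl⟩
    · exact pairP_mem ha hb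
    · exact mul_mem (pairP_mem ha hb) swapP_mem

theorem pairP_eq {a b c d : Perm (Fin 5)} (h : pairP a b = pairP c d) : a = c ∧ b = d := by
  have h' := Equiv.Perm.sumCongrHom_injective (a₁ := (a, b)) (a₂ := (c, d)) h
  exact ⟨congrArg Prod.fst h', congrArg Prod.snd h'⟩

/-- no non-trivial normal 2-subgroup -/
theorem wreath_two_core (N : Subgroup alternatingFiveWreathTwo) (hn : N.Normal)
    (hN : IsPGroup 2 N) : N = ⊥ := by
  let ι : alternatingGroup (Fin 5) × alternatingGroup (Fin 5) →* alternatingFiveWreathTwo :=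
    MonoidHom.mk' (fun t => ⟨pairP t.1 t.2, pairP_mem t.1.2 t.2.2⟩)
      fun s t => Subtype.ext (pairP_mul _ _ _ _).symm
  have hι : Function.Injective ι := by
    intro s t h
    obtain ⟨h1, h2⟩ := pairP_eq (congrArg Subtype.val h)
    exact Prod.ext (Subtype.ext h1) (Subtype.ext h2)
  set M := N.comap ι
  haveI : M.Normal := hn.comap ι
  have hM : IsPGroup 2 M := hN.comap_of_injective ι hι
  have hz : ∀ f : alternatingGroup (Fin 5) × alternatingGroup (Fin 5) →* alternatingGroup (Fin 5),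
      Function.Surjective f → ∀ x ∈ M, f x = 1 := by
    intro f hf x hx
    haveI := alternatingGroup.isSimpleGroup_five
    rcases IsSimpleGroup.eq_bot_or_eq_top_of_normal (M.map f)
      (Subgroup.Normal.map inferInstance f hf) with h | h
    · exact Subgroup.mem_bot.1 (h ▸ Subgroup.mem_map_of_mem f hx)
    · exfalso
      have h2 := IsPGroup.iff_card.1 (hM.map f)
      obtain ⟨n, hn'⟩ := h2
      rw [h, Subgroup.card_top, nat_card_alternatingGroup] at hn'
      simp [Nat.factorial] at hn'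
      have : 3 ∣ 2 ^ n := by rw [← hn']; norm_num
      exact absurd (Nat.prime_three.dvd_of_dvd_pow this) (by norm_num)
  have hbase : ∀ t, ι t ∈ N → t = 1 := fun t ht =>
    Prod.ext (hz (MonoidHom.fst _ _) Prod.fst_surjective t ht)
      (hz (MonoidHom.snd _ _) Prod.snd_surjective t ht)
  rw [eq_bot_iff]
  rintro x hx
  obtain ⟨a, ha, b, hb, e | e⟩ := mem_wreath_iff.1 x.2
  · have hxt : x = ι (⟨a, ha⟩, ⟨b, hb⟩) := Subtype.ext e
    rw [Subgroup.mem_bot, hxt]
    exact (congrArg ι (hbase _ (hxt ▸ hx))).trans (map_one ι)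
  · exfalso
    set c := baseC 3 with hc
    let t : alternatingFiveWreathTwo := ι (⟨c, baseC_even 3⟩, 1)
    have hk : x * (t * x⁻¹ * t⁻¹) ∈ N := mul_mem hx (hn.conj_mem _ (inv_mem hx) t)
    have hsw : swapP * pairP c 1 * swapP⁻¹ = pairP 1 c := by
      rw [swapP_pairP, mul_inv_cancel_right]
    have heq : x * (t * x⁻¹ * t⁻¹) = ι (⟨c⁻¹, inv_mem (baseC_even 3)⟩,
        ⟨b * c * b⁻¹, mul_mem (mul_mem hb (baseC_even 3)) (inv_mem hb)⟩) := by
      refine Subtype.ext ?_
      show (x : Perm (Fin 5 ⊕ Fin 5)) * (pairP c 1 * (x : Perm (Fin 5 ⊕ Fin 5))⁻¹ * (pairP c 1)⁻¹) =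
        pairP c⁻¹ (b * c * b⁻¹)
      rw [e, mul_inv_rev, show pairP a b * swapP * (pairP c 1 * (swapP⁻¹ * (pairP a b)⁻¹) *
        (pairP c 1)⁻¹) = pairP a b * (swapP * pairP c 1 * swapP⁻¹) * (pairP a b)⁻¹ *
        (pairP c 1)⁻¹ by simp only [mul_assoc], hsw,
        show (pairP a b)⁻¹ = pairP a⁻¹ b⁻¹ from Equiv.Perm.sumCongr_inv a b,
        show (pairP c 1)⁻¹ = pairP c⁻¹ 1⁻¹ from Equiv.Perm.sumCongr_inv c 1,
        pairP_mul, pairP_mul, pairP_mul]
      simp
    have h1 := hbase _ (heq ▸ hk)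
    have : c⁻¹ = 1 := congrArg (fun s : alternatingGroup (Fin 5) × alternatingGroup (Fin 5) =>
      (s.1 : Perm (Fin 5))) h1
    have hcne : baseC 3 ≠ 1 := fun h => absurd (Equiv.congr_fun h 0) (by decide)
    exact hcne (inv_eq_one.1 this)

end CfsgLib.Spor.Loc.Five
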