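import Cfsg.Agent.Lib.Spor.Loc.Five.Cover
import Cfsg.Agent.Lib.Spor.Loc.Five.Wreath

/-!
The centraliser of the element of order five acts on ten subspaces of the fixed classes as the
wreath product of the alternating group of degree five by a group of order two, with kernel the
element itself and minus one.
-/

set_option autoImplicit false
set_option maxRecDepth 100000

namespace CfsgLib.Spor.Loc.Five

open Cfsg CfsgLib.Spor CfsgLib.Spor.Loc CfsgLib.Spor.Co1Out
open Equiv

/-- the points of the two families -/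
abbrev Pts : Type := Fin 5 ⊕ Fin 5

/-- the number of a point -/
def ptCode : Pts → ℕ
  | .inl a => a
  | .inr b => 5 + b

/-- the point of a number -/
def ptOf (n : ℕ) : Pts :=
  if n < 5 then .inl (Fin.ofNat 5 n) else .inr (Fin.ofNat 5 (n - 5))

/-- the classes of a subspace -/
def objOf (k : Pts) : List ℕ := objList.getD (ptCode k) []

/-- the image of a point under a generator -/
def genImg (j : ℕ) (k : Pts) : Pts :=
  ptOf ((genPerms.getD j (List.range 10)).getD (ptCode k) 0)

/-- `g` sends the subspace `k` into the subspace `l` -/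
def Maps (g : Co0) (k l : Pts) : Prop :=
  ∀ i ∈ objOf k, ∃ j ∈ objOf l, cl (g • tv tabF i) = cl (tv tabF j)

theorem maps_one (k : Pts) : Maps 1 k k := fun i hi => ⟨i, hi, by rw [one_smul]⟩

theorem Maps.mul {g h : Co0} {k l m : Pts} (hh : Maps h k l) (hg : Maps g l m) :
    Maps (g * h) k m := by
  intro i hi
  obtain ⟨j, hj, hij⟩ := hh i hi
  obtain ⟨n, hn, hjn⟩ := hg j hj
  exact ⟨n, hn, by rw [mul_smul, cl_smul_congr g hij, hjn]⟩

theorem obj_chk : (∀ k : Pts, (objOf k).length = 15 ∧ (objOf k).Nodup ∧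
      (objOf k).all fun i => Nat.blt i 256) ∧
    ∀ l l' : Pts, l ≠ l' → ((objOf l).filter fun i => (objOf l').contains i).length < 15 := by
  decide +kernel

theorem obj_lt {k : Pts} {i : ℕ} (h : i ∈ objOf k) : i < 2 ^ 8 := by
  simpa using List.all_eq_true.1 (obj_chk.1 k).2.2 i h

theorem Maps.unique {g : Co0} {k l l' : Pts} (h : Maps g k l) (h' : Maps g k l') : l = l' := by
  classical
  by_contra hne
  choose f hf hf' using h
  have hmem : ∀ i (hi : i ∈ objOf k), f i hi ∈ objOf l' := fun i hi => by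
    obtain ⟨j, hj, hij⟩ := h' i hi
    rw [tab5.inj cl_ne_zero (obj_lt (hf i hi)) (obj_lt hj) ((hf' i hi).symm.trans hij)]
    exact hj
  have hle : (objOf k).toFinset.card ≤
      ((objOf l).filter fun i => (objOf l').contains i).toFinset.card := by
    refine Finset.card_le_card_of_injOn (fun i => if hi : i ∈ objOf k then f i hi else 0) ?_ ?_
    · intro i hi
      have hi' : i ∈ objOf k := by simpa using hi
      simpa [hi', List.mem_filter] using And.intro (hf i hi') (hmem i hi')
    · intro i hi j hj hij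
      have hi' : i ∈ objOf k := by simpa using hi
      have hj' : j ∈ objOf k := by simpa using hj
      simp only [dif_pos hi', dif_pos hj'] at hij
      refine tab5.inj cl_ne_zero (obj_lt hi') (obj_lt hj') ?_
      have e : cl (g • tv tabF i) = cl (g • tv tabF j) := by rw [hf' i hi', hf' j hj', hij]
      simpa using cl_smul_congr g⁻¹ e
  rw [List.toFinset_card_of_nodup (obj_chk.1 k).2.1, (obj_chk.1 k).1] at hle
  have := (List.toFinset_card_le ((objOf l).filter fun i => (objOf l').contains i)).trans_lt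
    (obj_chk.2 l l' hne)
  omega

theorem gen_chk : ∀ j < 7, ∀ k : Pts, (objOf k).all (fun i =>
    (objOf (genImg j k)).any fun i' =>
      congB (runF (gp j) (tabF.getD i [])) (tabF.getD i' [])) = true := by decide +kernel

theorem gel_eq_one {j : ℕ} (h : ¬ j < 7) : gel j = 1 :=
  eq_of_sameOK (actsAs_gel j) actsAs_one (by
    rw [gp, List.getD_eq_default _ _ (by rw [gensP_length]; omega)]
    decide +kernel)

theorem maps_gel {j : ℕ} (hj : j < 7) (k : Pts) : Maps (gel j) k (genImg j k) := by
  intro i hi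
  obtain ⟨i', hi', hc⟩ := List.any_eq_true.1 (List.all_eq_true.1 (gen_chk j hj k) i hi)
  refine ⟨i', hi', cl_of_congB ?_⟩
  rw [runF_eq] at hc
  rw [actsAs_gel, tv, tv, lOf_toL (tab5.entry i (obj_lt hi)), lOf_toL (tab5.entry i' (obj_lt hi'))]
  exact hc

/-- the elements permuting the subspaces -/
def permSub : Submonoid Co0 where
  carrier := {g | ∀ k, ∃ l, Maps g k l}
  one_mem' := fun k => ⟨k, maps_one k⟩
  mul_mem' := fun {g h} hg hh k => by
    obtain ⟨l, hl⟩ := hh k
    obtain ⟨m, hm⟩ := hg l
    exact ⟨m, hl.mul hm⟩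

theorem gel_mem_permSub (j : ℕ) : gel j ∈ permSub := fun k => by
  by_cases hj : j < 7
  · exact ⟨_, maps_gel hj k⟩
  · exact ⟨k, gel_eq_one hj ▸ maps_one k⟩

theorem wordEl_mem_permSub (w : List ℕ) : wordEl w ∈ permSub :=
  list_prod_mem fun x hx => by
    obtain ⟨j, -, rfl⟩ := List.mem_map.1 hx
    exact gel_mem_permSub j

theorem inv_mem_permSub {g : Co0} (hg : g ∈ permSub) : g⁻¹ ∈ permSub := by
  have h : g ^ (orderOf g - 1) * g = 1 := by
    rw [← pow_succ, Nat.sub_add_cancel (orderOf_pos g), pow_orderOf_eq_one]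
  rw [← eq_inv_of_mul_eq_one_left h]
  exact pow_mem hg _

/-- the centraliser -/
abbrev C5 : Subgroup Co0 := Subgroup.centralizer ({bh5} : Set Co0)

theorem exists_img (g : C5) (k : Pts) : ∃ l, Maps (g : Co0) k l := by
  obtain ⟨e, -, ws, -, wp, -, h⟩ := cent_param (Subgroup.mem_centralizer_singleton_iff.1 g.2)
  rw [h]
  exact permSub.mul_mem (inv_mem_permSub (wordEl_mem_permSub _))
    (permSub.mul_mem (wordEl_mem_permSub _) (wordEl_mem_permSub _)) k

/-- the image of a point -/
noncomputable def img (g : C5) (k : Pts) : Pts := (exists_img g k).choose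

theorem img_eq {g : C5} {k l : Pts} (h : Maps (g : Co0) k l) : img g k = l :=
  (exists_img g k).choose_spec.unique h

theorem maps_img (g : C5) (k : Pts) : Maps (g : Co0) k (img g k) := (exists_img g k).choose_spec

theorem img_mul (g h : C5) (k : Pts) : img (g * h) k = img g (img h k) :=
  img_eq ((maps_img h k).mul (maps_img g _))

theorem img_one (k : Pts) : img 1 k = k := img_eq (maps_one k)

/-- the permutation representation -/
noncomputable def permHom : C5 →* Perm Pts :=
  MonoidHom.mk' (fun g => ⟨img g, img g⁻¹,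
      fun k => by rw [← img_mul, inv_mul_cancel, img_one],
      fun k => by rw [← img_mul, mul_inv_cancel, img_one]⟩)
    fun g h => Equiv.ext fun k => img_mul g h k

/-- a generator, inside the centraliser -/
noncomputable def gelC (j : ℕ) : C5 := ⟨gel j, gel_mem j⟩

/-- a word, inside the centraliser -/
noncomputable def wordC (w : List ℕ) : C5 := (w.map gelC).prod

theorem wordC_coe : ∀ w : List ℕ, ((wordC w : C5) : Co0) = wordEl w
  | [] => rfl
  | j :: w => by
    rw [wordC, List.map_cons, List.prod_cons, Subgroup.coe_mul]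
    show gel j * ((wordC w : C5) : Co0) = _
    rw [wordC_coe w, wordEl, wordEl, List.map_cons, List.prod_cons]

/-- exponents of the two components and the swap, of each generator -/
def genExp : List ((Fin 5 × Fin 2 × Fin 2 × Fin 3) × (Fin 5 × Fin 2 × Fin 2 × Fin 3) × Bool) :=
  [((4, 1, 0, 0), (2, 0, 1, 1), false), ((3, 0, 1, 0), (3, 0, 1, 0), false),
   ((4, 1, 1, 2), (4, 1, 1, 2), false), ((3, 0, 0, 2), (3, 0, 0, 2), false),
   ((0, 0, 0, 0), (0, 0, 0, 0), true), ((2, 1, 1, 0), (2, 1, 1, 0), true),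
   ((2, 1, 1, 2), (0, 0, 0, 2), true)]

/-- the permutation of a generator -/
def genVal (j : ℕ) : Perm Pts :=
  match genExp.getD j ((0, 0, 0, 0), (0, 0, 0, 0), false) with
  | ((i, j', k, l), (i', j'', k', l'), s) =>
    pairP (a5Of i j' k l) (a5Of i' j'' k' l') * if s then swapP else 1

theorem genVal_ok : ∀ j < 7, ∀ k : Pts, genVal j k = genImg j k := by decide +kernel

theorem genVal_mem (j : ℕ) : genVal j ∈ alternatingFiveWreathTwo := by
  unfold genVal
  generalize genExp.getD j ((0, 0, 0, 0), (0, 0, 0, 0), false) = t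
  obtain ⟨⟨i, j', k, l⟩, ⟨i', j'', k', l'⟩, s⟩ := t
  refine mul_mem (pairP_mem (a5Of_even _ _ _ _) (a5Of_even _ _ _ _)) ?_
  cases s
  · exact one_mem _
  · exact swapP_mem

theorem permHom_gelC (j : ℕ) (hj : j < 7) : permHom (gelC j) = genVal j :=
  Equiv.ext fun k => (img_eq (maps_gel hj k)).trans (genVal_ok j hj k).symm

theorem permHom_gelC_mem (j : ℕ) : permHom (gelC j) ∈ alternatingFiveWreathTwo := by
  by_cases hj : j < 7
  · rw [permHom_gelC j hj]; exact genVal_mem j
  · rw [show gelC j = 1 from Subtype.ext (gel_eq_one hj), map_one]; exact one_mem _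

theorem permHom_mem (g : C5) : permHom g ∈ alternatingFiveWreathTwo := by
  have hw : ∀ w, permHom (wordC w) ∈ alternatingFiveWreathTwo := fun w => by
    rw [wordC, map_list_prod]
    refine list_prod_mem fun x hx => ?_
    obtain ⟨y, hy, rfl⟩ := List.mem_map.1 hx
    obtain ⟨j, -, rfl⟩ := List.mem_map.1 hy
    exact permHom_gelC_mem j
  obtain ⟨e, -, ws, -, wp, -, h⟩ := cent_param (Subgroup.mem_centralizer_singleton_iff.1 g.2)
  rw [show g = (wordC e.2)⁻¹ * (wordC ws * wordC wp) from Subtype.ext (by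
    rw [h, Subgroup.coe_mul, Subgroup.coe_inv, Subgroup.coe_mul, wordC_coe, wordC_coe, wordC_coe]),
    map_mul, map_inv, map_mul]
  exact mul_mem (inv_mem (hw _)) (mul_mem (hw _) (hw _))

/-- the map onto the wreath product -/
noncomputable def phi : C5 →* alternatingFiveWreathTwo :=
  permHom.codRestrict _ permHom_mem

/-- the value of a word -/
def wordVal : List ℕ → Perm Pts
  | [] => 1
  | j :: w => genVal j * wordVal w

theorem permHom_wordC : ∀ w : List ℕ, (∀ j ∈ w, j < 7) → permHom (wordC w) = wordVal w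
  | [], _ => map_one _
  | j :: w, h => by
    rw [wordC, List.map_cons, List.prod_cons, map_mul, wordVal,
      permHom_gelC j (h j List.mem_cons_self), ← permHom_wordC w fun i hi =>
        h i (List.mem_cons_of_mem _ hi)]
    rfl

theorem img_chk : (∀ k : Pts, wordVal (imgWords.getD 0 []) k = swapP k) ∧
    (∀ c : Fin 4, ∀ k : Pts, wordVal (imgWords.getD (c.1 + 1) []) k = pairP (baseC c) 1 k) ∧
    imgWords.all (fun w => w.all fun j => Nat.blt j 7) = true := by decide +kernel

theorem wreath_le_range : alternatingFiveWreathTwo ≤ permHom.range := by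
  have hlt : ∀ i < 5, ∀ j ∈ imgWords.getD i [], j < 7 := fun i hi j hj => by
    rw [List.getD_eq_getElem _ _ (show i < imgWords.length from hi)] at hj
    simpa using List.all_eq_true.1 (List.all_eq_true.1 img_chk.2.2 _ (List.getElem_mem _)) j hj
  refine wreath_le ⟨wordC (imgWords.getD 0 []), ?_⟩ fun c => ⟨wordC (imgWords.getD (c.1 + 1) []), ?_⟩
  · exact (permHom_wordC _ (hlt 0 (by norm_num))).trans (Equiv.ext img_chk.1)
  · exact (permHom_wordC _ (hlt _ (by omega))).trans (Equiv.ext (img_chk.2.1 c))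

theorem phi_surjective : Function.Surjective phi := by
  rintro ⟨x, hx⟩
  obtain ⟨g, rfl⟩ := wreath_le_range hx
  exact ⟨g, rfl⟩

theorem natCard_wreath_ge : 7200 ≤ Nat.card alternatingFiveWreathTwo := by
  let A := alternatingGroup (Fin 5)
  let f : A × A × Bool → alternatingFiveWreathTwo := fun t =>
    ⟨pairP t.1 t.2.1 * (if t.2.2 then swapP else 1),
      mul_mem (pairP_mem t.1.2 t.2.1.2) (by split; exacts [swapP_mem, one_mem _])⟩
  have hf : Function.Injective f := by
    rintro ⟨a, b, s⟩ ⟨c, d, t⟩ h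
    have h' := congrArg Subtype.val h
    have hst : s = t := by
      have h0 := Equiv.congr_fun h' (Sum.inl 0)
      revert h0
      cases s <;> cases t <;> simp [f, pairP, swapP]
    subst hst
    obtain ⟨h1, h2⟩ := pairP_eq (mul_right_cancel h')
    exact Prod.ext (Subtype.ext h1) (Prod.ext (Subtype.ext h2) rfl)
  refine le_trans (le_of_eq ?_) (Nat.card_le_card_of_injective f hf)
  have hA : Nat.card A = 60 := by
    rw [nat_card_alternatingGroup]
    simp [Nat.factorial]
  rw [Nat.card_prod, Nat.card_prod, hA, Nat.card_eq_fintype_card (α := Bool), Fintype.card_bool]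

theorem negEl_mem_C5 : negEl ∈ C5 :=
  Subgroup.mem_centralizer_singleton_iff.2 (Subgroup.mem_center_iff.1 negEl_central _).symm

/-- minus the element of order five -/
noncomputable def gen10 : C5 :=
  ⟨negEl * bh5, mul_mem negEl_mem_C5 (Subgroup.mem_centralizer_singleton_iff.2 rfl)⟩

theorem phi_eq_one_of_fix {g : C5}
    (h : ∀ i < 2 ^ 8, cl ((g : Co0) • tv tabF i) = cl (tv tabF i)) : phi g = 1 := by
  refine Subtype.ext (Equiv.ext fun k => ?_)
  exact img_eq fun i hi => ⟨i, hi, h i (obj_lt hi)⟩

theorem orderOf_gen10 : orderOf gen10 = 10 := by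
  rw [← Subgroup.orderOf_coe]
  show orderOf (negEl * bh5) = 10
  have hc : Commute negEl bh5 := (Subgroup.mem_center_iff.1 negEl_central _).symm
  haveI : Fact (Nat.Prime 2) := ⟨Nat.prime_two⟩
  have h2 : orderOf negEl = 2 := orderOf_eq_prime (by
    rw [pow_two]
    exact eq_of_sameOK (actsAs_mul actsAs_negEl actsAs_negEl) actsAs_one (by decide +kernel))
    negEl_ne_one
  rw [hc.orderOf_mul_eq_mul_orderOf_of_coprime (by rw [h2, orderOf_bh5]; decide), h2, orderOf_bh5]

theorem phi_ker : phi.ker = Subgroup.zpowers gen10 := by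
  have hle : Subgroup.zpowers gen10 ≤ phi.ker := by
    rw [Subgroup.zpowers_le, MonoidHom.mem_ker]
    refine phi_eq_one_of_fix fun i hi => ?_
    show cl ((negEl * bh5) • tv tabF i) = _
    rw [mul_smul, cl_smul_congr negEl (tab5.fixed i hi)]
    have e : negEl • tv tabF i = -tv tabF i := negEl_smul _
    rw [e, map_neg, neg_eq_iff_add_eq_zero, cl_two]
  have h10 : Nat.card (Subgroup.zpowers gen10) = 10 := by rw [Nat.card_zpowers, orderOf_gen10]
  refine (Subgroup.eq_of_le_of_card_ge hle ?_).symm
  have h1 := Subgroup.card_mul_index phi.ker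
  rw [Subgroup.index_ker, MonoidHom.range_eq_top.2 phi_surjective, Subgroup.card_top] at h1
  have h2 : Nat.card C5 ≤ 72000 := card_cent_le
  have h3 := natCard_wreath_ge
  rw [h10]
  by_contra h
  have h4 : 11 * 7200 ≤ Nat.card phi.ker * Nat.card alternatingFiveWreathTwo :=
    Nat.mul_le_mul (by omega) h3
  omega

theorem phi_eq_one_iff (g : C5) : phi g = 1 ↔
    (QuotientGroup.mk (g : Co0) : Cfsg.Spor.Co1) ∈
      Subgroup.zpowers (QuotientGroup.mk bh5 : Cfsg.Spor.Co1) := by
  rw [← MonoidHom.mem_ker, phi_ker, Subgroup.mem_zpowers_iff, Subgroup.mem_zpowers_iff]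
  have hc : Commute negEl bh5 := (Subgroup.mem_center_iff.1 negEl_central _).symm
  have hn : (QuotientGroup.mk negEl : Cfsg.Spor.Co1) = 1 :=
    (QuotientGroup.eq_one_iff negEl).2 negEl_central
  have hg : (QuotientGroup.mk (negEl * bh5) : Cfsg.Spor.Co1) = QuotientGroup.mk bh5 := by
    rw [QuotientGroup.mk_mul, hn, one_mul]
  constructor
  · rintro ⟨i, rfl⟩
    refine ⟨i, ?_⟩
    rw [← hg, ← QuotientGroup.mk_zpow]
    rfl
  · rintro ⟨i, hi⟩
    rw [← hg, ← QuotientGroup.mk_zpow, QuotientGroup.eq] at hi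
    rcases eq_of_central hi with h | h
    · exact ⟨i, Subtype.ext (inv_mul_eq_one.1 h)⟩
    · refine ⟨i + 5, Subtype.ext ?_⟩
      show (negEl * bh5) ^ (i + 5) = (g : Co0)
      have h5 : (negEl * bh5) ^ (5 : ℤ) = negEl := by
        rw [show (5 : ℤ) = ((5 : ℕ) : ℤ) from rfl, zpow_natCast, hc.mul_pow, bh5_pow, mul_one]
        have hsq : negEl * negEl = 1 :=
          eq_of_sameOK (actsAs_mul actsAs_negEl actsAs_negEl) actsAs_one (by decide +kernel)
        rw [show (5 : ℕ) = 2 + 2 + 1 from rfl, pow_add, pow_add, pow_two, hsq, one_mul, one_mul,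
          pow_one]
      rw [zpow_add, h5]
      exact (inv_mul_eq_iff_eq_mul.1 h).symm

theorem phi_faith (g : C5)
    (h : ∀ v : leechLattice, cl (bh5 • v) = cl v → cl ((g : Co0) • v) = cl v) : phi g = 1 :=
  phi_eq_one_of_fix fun i hi => h _ (tab5.fixed i hi)

end CfsgLib.Spor.Loc.Five
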