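import Cfsg.Agent.Lib.Spor.Loc.Fix
import Cfsg.Agent.Lib.Spor.Loc.Five.Data
import Cfsg.Agent.Lib.Spor.Co1Out.Main
import Cfsg.Agent.Lib.Spor.CentralFree

/-!
The element of order five, the generators of its centraliser and the certified table of fixed
classes.
-/

set_option autoImplicit false
set_option maxRecDepth 100000

namespace CfsgLib.Spor.Loc.Five

open Cfsg CfsgLib.Spor CfsgLib.Spor.Loc CfsgLib.Spor.Co1Out
open CfsgLib.ThreeTransp.CoReduce (bigE)
open CfsgLib.MathieuOut (idP rep_idP powP rep_pow eqP eqP_iff)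
open scoped Pointwise

theorem sigA_isM24 : isM24P sigA = true := by decide +kernel

theorem tauA_isM24 : isM24P tauA = true := by decide +kernel

/-- the permutation of order five -/
noncomputable def sigEl : ↥M24 :=
  ⟨(exists_rep_M24 sigA_isM24).choose, (exists_rep_M24 sigA_isM24).choose_spec.1⟩

/-- a permutation squaring it -/
noncomputable def tauEl : ↥M24 :=
  ⟨(exists_rep_M24 tauA_isM24).choose, (exists_rep_M24 tauA_isM24).choose_spec.1⟩

theorem rep_sigEl : Rep (sigEl : Equiv.Perm GolayPt) sigA :=
  (exists_rep_M24 sigA_isM24).choose_spec.2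

theorem rep_tauEl : Rep (tauEl : Equiv.Perm GolayPt) tauA :=
  (exists_rep_M24 tauA_isM24).choose_spec.2

theorem sig_checks : eqP (compP sigA sigAi) idP = true ∧ eqP (powP sigA 5) idP = true ∧
    eqP sigA idP = false ∧ isPermP sigAi = true ∧
    eqP (compP tauA sigA) (compP (powP sigA 2) tauA) = true ∧ getP sigA 23 = 23 := by
  decide +kernel

theorem rep_sigEl_inv : Rep ((sigEl : Equiv.Perm GolayPt))⁻¹ sigAi := by
  obtain ⟨ρ, hρ⟩ := exists_rep sig_checks.2.2.2.1
  have h := (eqP_iff (rep_sigEl.mul hρ) rep_idP).1 sig_checks.1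
  rwa [inv_eq_of_mul_eq_one_right h]

theorem sigEl_pow : sigEl ^ 5 = 1 :=
  Subtype.ext (by simpa using (eqP_iff (rep_pow rep_sigEl 5) rep_idP).1 sig_checks.2.1)

theorem sigEl_ne : sigEl ≠ 1 := by
  intro h
  have := (eqP_iff rep_sigEl rep_idP).2 (by rw [h]; rfl)
  rw [sig_checks.2.2.1] at this
  exact absurd this (by decide)

theorem orderOf_sigEl : orderOf sigEl = 5 := by
  haveI : Fact (Nat.Prime 5) := ⟨by norm_num⟩
  exact orderOf_eq_prime sigEl_pow sigEl_ne

theorem tau_conj : tauEl * sigEl * tauEl⁻¹ = sigEl ^ 2 := by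
  refine mul_inv_eq_iff_eq_mul.2 (Subtype.ext ?_)
  simpa using (eqP_iff (rep_tauEl.mul rep_sigEl) ((rep_pow rep_sigEl 2).mul rep_tauEl)).1
    sig_checks.2.2.2.2.1

theorem sigEl_none : (sigEl : Equiv.Perm GolayPt) none = none := by
  apply idx_injective
  rw [← rep_sigEl.get, show idx (none : GolayPt) = 23 from rfl]
  exact sig_checks.2.2.2.2.2

/-- the automorphism of order five -/
noncomputable def bh5 : Co0 := permEl sigEl

/-- its program -/
def progBh : List Stp := [Stp.mono sigAi 0]

theorem actsAs_bh5 : ActsAs bh5 (runP progBh) := actsAs_permEl rep_sigEl_inv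

theorem bh5_pow : bh5 ^ 5 = 1 := by rw [bh5, ← permEl_pow, sigEl_pow, permEl_one]

theorem orderOf_bh5 : orderOf bh5 = 5 := by
  rw [bh5, CfsgLib.Spor.CentralFree.orderOf_permEl, orderOf_sigEl]

theorem bh5_top : bh5 • eTop = eTop := Subtype.ext (by
  rw [bh5, permEl, monoEl_smul, eTop_coe, signedPerm_single, if_neg (Finset.notMem_empty _),
    sigEl_none])

theorem tabF_ok : tabOK progBh 5 8 tabF covF = true := by decide +kernel

theorem tab5 : Tab bh5 8 tabF := tab_of_ok actsAs_bh5 (by decide) tabF_ok

/-! ### The generators -/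

/-- the programs of the generators -/
def gensP : List (List Stp) :=
  permGensInv.map (fun a => [Stp.mono a 0]) ++ signGens.map (fun s => [Stp.mono idP s]) ++ [progY]

/-- the program of a generator -/
def gp (j : ℕ) : List Stp := gensP.getD j []

theorem gensP_length : gensP.length = 7 := rfl

theorem gp_ok : ∀ j, (gp j).all Stp.ok = true := fun j => by
  by_cases h : j < 7
  · have : ∀ j < 7, (gp j).all Stp.ok = true := by decide +kernel
    exact this j h
  · rw [gp, List.getD_eq_default _ _ (by rw [gensP_length]; omega)]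
    rfl

/-- a generator -/
noncomputable def gel (j : ℕ) : Co0 := (exists_prog (gp_ok j)).choose

theorem actsAs_gel (j : ℕ) : ActsAs (gel j) (runP (gp j)) :=
  (exists_prog (gp_ok j)).choose_spec.2

/-- the product of a word in the generators -/
noncomputable def wordEl (w : List ℕ) : Co0 := (w.map gel).prod

/-- the program of a word -/
def progW (w : List ℕ) : List Stp := (w.reverse.map gp).flatten

theorem actsAs_wordEl : ∀ w : List ℕ, ActsAs (wordEl w) (runP (progW w))
  | [] => by rw [wordEl, List.map_nil, List.prod_nil]; exact actsAs_one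
  | j :: w => by
    rw [wordEl, List.map_cons, List.prod_cons, progW, List.reverse_cons, List.map_append,
      List.flatten_append]
    simpa [wordEl, progW] using actsAs_mul (actsAs_gel j) (actsAs_wordEl w)

theorem gp_comm : ∀ j < 7, sameOK (gp j ++ progBh) (progBh ++ gp j) = true := by decide +kernel

theorem gel_comm (j : ℕ) : bh5 * gel j = gel j * bh5 := by
  by_cases h : j < 7
  · exact eq_of_sameOK (actsAs_mul actsAs_bh5 (actsAs_gel j))
      (actsAs_mul (actsAs_gel j) actsAs_bh5) (gp_comm j h)
  · have h1 : gel j = 1 := eq_of_sameOK (actsAs_gel j) actsAs_one (by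
      rw [gp, List.getD_eq_default _ _ (by rw [gensP_length]; omega)]
      decide +kernel)
    rw [h1, mul_one, one_mul]

theorem gel_mem (j : ℕ) : gel j ∈ Subgroup.centralizer ({bh5} : Set Co0) :=
  Subgroup.mem_centralizer_singleton_iff.2 (gel_comm j).symm

theorem wordEl_mem (w : List ℕ) : wordEl w ∈ Subgroup.centralizer ({bh5} : Set Co0) :=
  Subgroup.list_prod_mem _ fun x hx => by
    obtain ⟨j, -, rfl⟩ := List.mem_map.1 hx
    exact gel_mem j

end CfsgLib.Spor.Loc.Five
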