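import Cfsg.Agent.Lib.Spor.Loc.Five.Basic
import Cfsg.Agent.Lib.KnownA.MathieuOut.Main
import Cfsg.Agent.Lib.Spor.M24Order

/-!
The centraliser of the element of order five is generated by the generators, and has order at
most 72000.
-/

set_option autoImplicit false
set_option maxRecDepth 100000

namespace CfsgLib.Spor.Loc.Five

open Cfsg CfsgLib.Spor CfsgLib.Spor.Loc CfsgLib.Spor.Co1Out
open CfsgLib.ThreeTransp.CoReduce (bigE)
open CfsgLib.MathieuOut (stabG_M24 idP rep_idP canon rep_canon canon_eq_normP normP planOK dfs canon_mem_dfs iterP)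
open scoped Pointwise symmDiff

/-- the word acts monomially with permutation `a` and sign mask `m` -/
def monoChk (w : List ℕ) (a m : ℕ) : Bool :=
  (List.range 24).all fun i => decide (runF (progW w) (bigL i) =
    (bigL (getP a i)).map fun x => if m.testBit (getP a i) then -x else x)

theorem lOf_signed (p : GolayPt) (m : Bool) :
    lOf (Pi.single p (if m then -8 else 8) : GolayPt → ℤ) =
      (bigL (idx p)).map fun x => if m then -x else x := by
  revert p m
  decide +kernel

theorem wordEl_eq_monoEl {w : List ℕ} {q : MonoIdx} {a : ℕ}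
    (ha : Rep (q.1 : Equiv.Perm GolayPt) a) (h : monoChk w a (mask q.2.1) = true) :
    wordEl w = monoEl q := by
  refine co0_ext fun i => Subtype.ext (lOf_inj ?_)
  rw [actsAs_wordEl, monoEl_smul, bigE_coe, signedPerm_single]
  simp only [monoChk, List.all_eq_true, List.mem_range, decide_eq_true_eq, runF_eq] at h
  have h' := h (idx i) (idx_lt i)
  rw [ha.get, testBit_mask] at h'
  rw [← bigE_coe, lOf_bigE, h', ← lOf_signed]
  by_cases hm : (q.1 : Equiv.Perm GolayPt) i ∈ (q.2 : Finset GolayPt) <;> simp [hm]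

/-- the sign words -/
def signWords : List (List ℕ) := [2, 3, 4, 5].sublists

/-- the representatives of the orbits -/
def orbRep (j : ℕ) : ℕ := (planF.map Prod.fst).getD j 0

/-- the orbit of a point -/
def orbIdx (i : ℕ) : ℕ :=
  (List.range 8).findIdx fun j => (List.range 5).any fun k => Nat.beq (iterP sigA k (orbRep j)) i

theorem orbIdx_ok : ∀ i < 24, orbIdx i < 8 ∧ orbRep (orbIdx i) < 24 ∧
    ∃ k < 5, iterP sigA k (orbRep (orbIdx i)) = i := by decide +kernel

/-- the mask constant on orbits with given values -/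
def patMask (b : ℕ) : ℕ := Nat.ofBits fun i : Fin 24 => b.testBit (orbIdx i)

theorem sign_chk : ((List.range 256).all fun b => !inCode (patMask b) ||
    signWords.any fun w => monoChk w idP (patMask b)) = true := by decide +kernel

theorem plan_ok : planOK sigA planF [] = true ∧
    ((dfs [] [] sigA sigA planF []).all fun z =>
      permWords.any fun w => monoChk w z 0) = true := by decide +kernel

theorem mask_const {e : Finset GolayPt} (he : (sigEl : Equiv.Perm GolayPt) • e = e) {i : ℕ}
    (hi : i < 24) : (mask e).testBit i = (mask e).testBit (orbRep (orbIdx i)) := by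
  have hstep : ∀ j < 24, getP sigA j < 24 ∧ (mask e).testBit (getP sigA j) = (mask e).testBit j := by
    intro j hj
    refine ⟨rep_sigEl j hj ▸ idx_lt _, ?_⟩
    rw [rep_sigEl j hj, testBit_mask]
    conv_rhs => rw [← idx_pt hj, testBit_mask]
    refine decide_eq_decide.2 ?_
    conv_lhs => rw [← he, mem_smul_iff, Equiv.symm_apply_apply]
  have hit : ∀ k j, j < 24 → iterP sigA k j < 24 ∧
      (mask e).testBit (iterP sigA k j) = (mask e).testBit j := by
    intro k
    induction k with
    | zero => exact fun j hj => ⟨hj, rfl⟩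
    | succ k ih =>
      intro j hj
      obtain ⟨h1, h2⟩ := hstep j hj
      obtain ⟨h3, h4⟩ := ih _ h1
      exact ⟨h3, h4.trans h2⟩
  obtain ⟨-, hr, k, -, hk⟩ := orbIdx_ok i hi
  conv_lhs => rw [← hk]
  exact (hit k _ hr).2

theorem mask_eq_pat {e : Finset GolayPt} (he : (sigEl : Equiv.Perm GolayPt) • e = e) :
    mask e = patMask (Nat.ofBits fun j : Fin 8 => (mask e).testBit (orbRep j)) := by
  refine Nat.eq_of_testBit_eq fun i => ?_
  by_cases hi : i < 24
  · rw [patMask, Nat.testBit_ofBits_lt _ _ hi, Nat.testBit_ofBits_lt _ _ (orbIdx_ok i hi).1]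
    exact mask_const he hi
  · rw [patMask, Nat.testBit_ofBits_ge _ _ (by omega)]
    exact Nat.testBit_eq_false_of_lt (lt_of_lt_of_le (mask_lt e)
      (Nat.pow_le_pow_right (by norm_num) (by omega)))

/-- monomial elements of the centraliser -/
theorem cross_comm {g : Co0} (hg : g ∈ crossStab) (hc : g * bh5 = bh5 * g) :
    ∃ ws ∈ signWords, ∃ wp ∈ permWords, g = wordEl ws * wordEl wp := by
  obtain ⟨⟨τ, e⟩, rfl⟩ := exists_monoEl_of_mem hg
  obtain ⟨hτ, he⟩ := mono_comm hc
  have hs : (τ : Equiv.Perm GolayPt) ∈ CfsgLib.Spor.stabG [] [] := by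
    rw [stabG_M24]; exact τ.2
  have hmem := canon_mem_dfs plan_ok.1 hs (by simp) rep_sigEl rep_sigEl hτ
  obtain ⟨wp, hwp, hp⟩ := List.any_eq_true.1 (List.all_eq_true.1 plan_ok.2 _ hmem)
  have hp' : wordEl wp = monoEl (τ, ⟨∅, empty_supports⟩) := by
    refine wordEl_eq_monoEl (rep_canon _) ?_
    rwa [show mask (∅ : Finset GolayPt) = 0 by rw [← toSet_zero, mask_toSet (by norm_num)]]
  have hb := List.all_eq_true.1 sign_chk
    (Nat.ofBits fun j : Fin 8 => (mask (e : Finset GolayPt)).testBit (orbRep j))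
    (List.mem_range.2 (Nat.ofBits_lt_two_pow _))
  rw [← mask_eq_pat he, show inCode (mask (e : Finset GolayPt)) = true from
    mem_supports_iff_inCode.1 e.2] at hb
  simp only [Bool.not_true, Bool.false_or] at hb
  obtain ⟨ws, hws, hsm⟩ := List.any_eq_true.1 hb
  have hs' : wordEl ws = epsEl e := wordEl_eq_monoEl (q := (1, e)) rep_idP hsm
  refine ⟨ws, hws, wp, hwp, ?_⟩
  rw [hs', hp', epsEl, monoEl_mul]
  congr 1
  refine Prod.ext (one_mul _).symm (Subtype.ext ?_)
  simp [Finset.smul_finset_empty]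
  exact (symmDiff_bot _).symm

theorem frame_chk : ((List.range 256).all fun i => !decide (normL (tabF.getD i []) = 64) ||
      frameWords.any fun e => Nat.beq e.1 i) = true ∧
    (frameWords.all fun e => congB (runF (progW e.2) (tabF.getD e.1 [])) (bigL 23)) = true := by
  decide +kernel

theorem exists_frame {g : Co0} (hc : g * bh5 = bh5 * g) :
    ∃ e ∈ frameWords, wordEl e.2 * g ∈ crossStab := by
  set v := g • eTop with hv
  have hfix : bh5 • v = v := by
    rw [hv, ← mul_smul, ← hc, mul_smul, bh5_top]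
  obtain ⟨i, hi, hvi⟩ := tab5.cover v (by rw [hfix])
  have hn : sqNorm (v : GolayPt → ℤ) = 64 := (coe_smul_sqNorm g eTop).trans (sqNorm_bigE none)
  have hi0 : i ≠ 0 := by
    rintro rfl
    exact cl_ne_zero v (Or.inr (Or.inr hn)) (hvi.trans tab5.zero)
  have hle : sqNorm ((tv tabF i : leechLattice) : GolayPt → ℤ) ≤ 64 := by
    rcases tab5.norm i hi hi0 with h | h | h <;> omega
  have h64 : normL (tabF.getD i []) = 64 := by
    have h1 := (short_classes (tv tabF i).2 (le_of_eq hn) hle (mk_eq_iff.1 hvi)).1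
    rw [← lOf_toL (tab5.entry i hi), ← sqNorm_lOf]
    exact h1.symm.trans hn
  obtain ⟨c1, c2⟩ := frame_chk
  have h := List.all_eq_true.1 c1 i (List.mem_range.2 hi)
  simp only [decide_eq_true h64, Bool.not_true, Bool.false_or, List.any_eq_true, Nat.beq_eq] at h
  obtain ⟨e, he, rfl⟩ := h
  have hcong := List.all_eq_true.1 c2 e he
  rw [runF_eq] at hcong
  have h2 : cl (wordEl e.2 • v) = cl eTop := by
    rw [cl_smul_congr _ hvi]
    refine cl_of_congB ?_
    rw [actsAs_wordEl, tv, lOf_toL (tab5.entry _ hi), eTop, lOf_bigE]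
    exact hcong
  refine ⟨e, he, mem_crossStab_of_top ?_⟩
  rw [mul_smul, ← hv]
  obtain ⟨u, hu⟩ := cl_eq_iff.1 h2.symm
  refine mem_stdCross_iff.2 ⟨SetLike.coe_mem _, (coe_smul_sqNorm _ v).trans hn, u, u.2, ?_⟩
  rw [← eTop_coe, hu, AddSubgroup.coe_add, AddSubgroup.coe_add, two_nsmul]
  abel

/-- every element of the centraliser -/
theorem cent_param {g : Co0} (hc : g * bh5 = bh5 * g) :
    ∃ e ∈ frameWords, ∃ ws ∈ signWords, ∃ wp ∈ permWords,
      g = (wordEl e.2)⁻¹ * (wordEl ws * wordEl wp) := by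
  obtain ⟨e, he, hm⟩ := exists_frame hc
  have hcm : wordEl e.2 * g * bh5 = bh5 * (wordEl e.2 * g) := by
    have h1 : Commute (wordEl e.2) bh5 :=
      Subgroup.mem_centralizer_singleton_iff.1 (wordEl_mem e.2)
    exact (h1.mul_left hc).eq
  obtain ⟨ws, hws, wp, hwp, h⟩ := cross_comm hm hcm
  exact ⟨e, he, ws, hws, wp, hwp, by rw [← h, inv_mul_cancel_left]⟩

theorem param_lengths : frameWords.length = 75 ∧ signWords.length = 16 ∧ permWords.length = 60 := by
  decide +kernel

theorem card_cent_le : Nat.card ↥(Subgroup.centralizer ({bh5} : Set Co0)) ≤ 72000 := by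
  classical
  have h : ∀ g : ↥(Subgroup.centralizer ({bh5} : Set Co0)), ∃ t : Fin 75 × Fin 16 × Fin 60,
      (g : Co0) = (wordEl (frameWords.getD t.1 (0, [])).2)⁻¹ *
        (wordEl (signWords.getD t.2.1 []) * wordEl (permWords.getD t.2.2 [])) := by
    intro g
    obtain ⟨e, he, ws, hws, wp, hwp, heq⟩ :=
      cent_param (Subgroup.mem_centralizer_singleton_iff.1 g.2)
    obtain ⟨a, ha, rfl⟩ := List.getElem_of_mem he
    obtain ⟨b, hb, rfl⟩ := List.getElem_of_mem hws
    obtain ⟨c, hc, rfl⟩ := List.getElem_of_mem hwp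
    refine ⟨(⟨a, param_lengths.1 ▸ ha⟩, ⟨b, param_lengths.2.1 ▸ hb⟩, ⟨c, param_lengths.2.2 ▸ hc⟩), ?_⟩
    rw [List.getD_eq_getElem _ _ ha, List.getD_eq_getElem _ _ hb, List.getD_eq_getElem _ _ hc]
    exact heq
  choose f hf using h
  refine le_trans (Nat.card_le_card_of_injective f fun g g' e => Subtype.ext ?_) ?_
  · rw [hf g, hf g', e]
  · simp [Nat.card_prod, Nat.card_fin]

end CfsgLib.Spor.Loc.Five
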