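import Cfsg.Agent.Lib.Spor.Loc.Five.Basic
import Cfsg.Agent.Lib.Spor.Loc.Local

/-!
In the joint centraliser of `z` and a conjugate of `z` in `Q` an element of order five is
conjugate to its square, and some element centralising it moves `z` to the conjugate.
-/

set_option autoImplicit false
set_option linter.unusedSectionVars false

namespace CfsgLib.Spor.Loc.Five

open Cfsg CfsgLib.ThreeTransp CfsgLib.Spor CfsgLib.Spor.Loc
open CfsgLib.ThreeTransp.MonsterFrame (qImage up)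
open CfsgLib.ThreeTransp.CoReduce (bigE)
open scoped Pointwise

/-- subgroups of the order of the five-part are conjugate -/
theorem five_conj {G : Type*} [Group G] [Finite G] (hG : (Nat.card G).factorization 5 = 1)
    {u v : G} (hu : orderOf u = 5) (hv : orderOf v = 5) :
    ∃ c : G, ∃ j : ℕ, c * u * c⁻¹ = v ^ j := by
  haveI : Fact (Nat.Prime 5) := ⟨by norm_num⟩
  let P : Sylow 5 G := Sylow.ofCard (Subgroup.zpowers u) (by rw [Nat.card_zpowers, hu, hG, pow_one])
  let R : Sylow 5 G := Sylow.ofCard (Subgroup.zpowers v) (by rw [Nat.card_zpowers, hv, hG, pow_one])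
  obtain ⟨c, hc⟩ := MulAction.exists_smul_eq G P R
  have h : c * u * c⁻¹ ∈ Subgroup.zpowers v := by
    have h1 : (R : Subgroup G) = MulAut.conj c • (Subgroup.zpowers u) := by rw [← hc]; rfl
    have h2 : (R : Subgroup G) = Subgroup.zpowers v := rfl
    rw [← h2, h1]
    exact Subgroup.smul_mem_pointwise_smul u (MulAut.conj c) _ (Subgroup.mem_zpowers u)
  obtain ⟨j, hj⟩ := (mem_powers_iff_mem_zpowers).2 h
  exact ⟨c, j, hj.symm⟩

theorem crossStab_fact : (Nat.card crossStab).factorization 5 = 1 := by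
  haveI : Fact (Nat.Prime 5) := ⟨by norm_num⟩
  rw [natCard_crossStab, show (4096 * 244823040 : ℕ) = 5 ^ 1 * 200559034368 by norm_num,
    Nat.factorization_mul (by norm_num) (by norm_num), Finsupp.add_apply,
    Nat.Prime.factorization_pow (by norm_num),
    Nat.factorization_eq_zero_of_not_dvd (by norm_num)]
  simp

theorem tau_bh5 : permEl tauEl * bh5 * (permEl tauEl)⁻¹ = bh5 ^ 2 := by
  rw [bh5, ← permEl_inv, ← permEl_mul, ← permEl_mul, tau_conj, permEl_pow]

/-- the elements of order five of the stabiliser of the cross -/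
theorem cross_five {g : Co0} (hg : g ∈ crossStab) (h5 : orderOf g = 5) :
    ∃ n ∈ crossStab, g = n * bh5 * n⁻¹ := by
  obtain ⟨⟨c, hc⟩, j, hcj⟩ := five_conj crossStab_fact
    (u := (⟨g, hg⟩ : crossStab)) (v := ⟨bh5, monoEl_mem_crossStab _⟩)
    (by rw [← Subgroup.orderOf_coe]; exact h5) (by rw [← Subgroup.orderOf_coe]; exact orderOf_bh5)
  have e : c * g * c⁻¹ = bh5 ^ j := congrArg Subtype.val hcj
  have hj : j % 5 ≠ 0 := by
    intro h0
    rw [pow_eq_pow_mod j bh5_pow, h0, pow_zero, conj_eq_one_iff] at e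
    rw [e, orderOf_one] at h5
    omega
  obtain ⟨i, hi⟩ : ∃ i : ℕ, bh5 ^ j = permEl tauEl ^ i * bh5 * (permEl tauEl ^ i)⁻¹ := by
    have key : ∀ i : ℕ, permEl tauEl ^ i * bh5 * (permEl tauEl ^ i)⁻¹ = bh5 ^ (2 ^ i) := by
      intro i
      induction i with
      | zero => simp
      | succ i ih =>
        rw [pow_succ' (permEl tauEl), show permEl tauEl * permEl tauEl ^ i * bh5 *
          (permEl tauEl * permEl tauEl ^ i)⁻¹ = permEl tauEl * (permEl tauEl ^ i * bh5 *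
          (permEl tauEl ^ i)⁻¹) * (permEl tauEl)⁻¹ by group, ih, ← conj_pow, tau_bh5, ← pow_mul,
          pow_succ']
    have hcases : ∀ r < 5, r ≠ 0 → ∃ i < 4, 2 ^ i % 5 = r := by decide
    obtain ⟨i, -, hi⟩ := hcases (j % 5) (Nat.mod_lt _ (by norm_num)) hj
    exact ⟨i, by rw [key, pow_eq_pow_mod j bh5_pow, pow_eq_pow_mod (2 ^ i) bh5_pow, hi]⟩
  refine ⟨c⁻¹ * permEl tauEl ^ i, crossStab.mul_mem (crossStab.inv_mem hc)
    (crossStab.pow_mem (monoEl_mem_crossStab _) i), ?_⟩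
  rw [hi] at e
  rw [show g = c⁻¹ * (c * g * c⁻¹) * c by group, e]
  group

variable {G : Type*} [Group G] [Finite G] {z : G}
  {Q : Subgroup (Subgroup.centralizer ({z} : Set G))} [Q.Normal]
  {e : (Subgroup.centralizer ({z} : Set G)) ⧸ Q ≃* Cfsg.Spor.Co1}
  {ψ : leechLattice → Q ⧸ Subgroup.center Q} (M : MonsterFrame z Q e ψ)
include M

theorem cross_fix {g : Co0} (hg : g ∈ crossStab) : ψ (g • eTop) = ψ eTop := by
  obtain ⟨-, -, w, hw, hd⟩ := mem_stdCross_iff.1 (mem_crossStab.1 hg eTop (bigE_mem_stdCross none))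
  refine M.psi_congr (u := -⟨w, hw⟩) (Subtype.ext ?_)
  rw [AddSubgroup.coe_add, AddSubgroup.coe_add, AddSubgroup.coe_neg]
  show _ = ((eTop : leechLattice) : GolayPt → ℤ) + (-w + -w)
  rw [eTop_coe, ← neg_add, ← two_nsmul, ← hd]; abel

theorem mem_cross_of_fix {g : Co0} (h : ψ (g • eTop) = ψ eTop) : g ∈ crossStab := by
  have h1 := (psi_eq_iff M).1 h.symm
  obtain ⟨u, hu⟩ := cl_eq_iff.1 h1
  refine mem_crossStab_of_top (mem_stdCross_iff.2 ⟨SetLike.coe_mem _,
    (coe_smul_sqNorm g eTop).trans (sqNorm_bigE none), u, u.2, ?_⟩)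
  have h3 := congrArg Subtype.val hu
  simp only [AddSubgroup.coe_add] at h3
  rw [← eTop_coe, sub_eq_iff_eq_add', two_nsmul]
  exact h3

/-- the image of the joint centraliser -/
theorem image_mem_cross {x : Q} (hx : ψ eTop = QuotientGroup.mk x)
    {a : Subgroup.centralizer ({z} : Set G)} (ha : (a : G) * up x = up x * a) {g : Co0}
    (hg : (QuotientGroup.mk g : Cfsg.Spor.Co1) = e (QuotientGroup.mk a)) : g ∈ crossStab := by
  refine mem_cross_of_fix M ?_
  rw [M.iso.2.2.2 a g hg eTop x hx, hx]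
  congr 1
  exact Subtype.ext (Subtype.ext (mul_inv_eq_iff_eq_mul.2 ha))

/-- the five-part of the joint centraliser -/
theorem joint_fact {x : Q} (hxc : IsConj z (up x)) (hne : up x ≠ z) {b : G}
    (hb : b ∈ Subgroup.centralizer ({z, up x} : Set G)) (h5 : orderOf b = 5) :
    (Nat.card ↥(Subgroup.centralizer ({z, up x} : Set G))).factorization 5 = 1 := by
  obtain ⟨v, hv, hvx⟩ := M.exists_norm64_of_conj hxc hne
  obtain ⟨g₀, rfl⟩ := exists_map (Or.inr (Or.inr rfl)) eTop v (sqNorm_bigE none) hv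
  have M' := M.twist g₀
  set H := Subgroup.centralizer ({z, up x} : Set G)
  have hH : ∀ a : H, (a : G) ∈ Subgroup.centralizer ({z} : Set G) ∧ (a : G) * up x = up x * a :=
    fun a => ⟨Subgroup.mem_centralizer_singleton_iff.2
      (Subgroup.mem_centralizer_iff.1 a.2 z (by simp)).symm,
      (Subgroup.mem_centralizer_iff.1 a.2 (up x) (by simp)).symm⟩
  let f0 : H →* Subgroup.centralizer ({z} : Set G) :=
    H.subtype.codRestrict _ fun a => (hH a).1
  let f : H →* Cfsg.Spor.Co1 := ((e.trans (MulAut.conj (QuotientGroup.mk g₀ : Cfsg.Spor.Co1)⁻¹)).toMonoidHom.comp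
    (QuotientGroup.mk' Q)).comp f0
  have hrange : f.range ≤ crossStab.map (QuotientGroup.mk' (Subgroup.center Co0)) := by
    rintro _ ⟨a, rfl⟩
    obtain ⟨g, hg⟩ := QuotientGroup.mk_surjective (f a)
    exact ⟨g, image_mem_cross M' hvx (a := f0 a) (hH a).2 hg, hg⟩
  have hker : Nat.card f.ker ∣ Nat.card (qImage Q) := by
    let ι : f.ker →* qImage Q := (H.subtype.comp f.ker.subtype).codRestrict _ fun a => by
      have h1 : (QuotientGroup.mk' Q) (f0 a) = 1 :=
        (e.trans (MulAut.conj (QuotientGroup.mk g₀ : Cfsg.Spor.Co1)⁻¹)).injective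
          (a.2.trans (map_one _).symm)
      exact ⟨f0 a, (QuotientGroup.eq_one_iff _).1 h1, rfl⟩
    exact Subgroup.card_dvd_of_injective ι fun a c h =>
      Subtype.ext (Subtype.ext (congrArg (fun t : qImage Q => (t : G)) h))
  have hdvd : Nat.card H ∣ 2 ^ 25 * (4096 * 244823040) := by
    rw [← Subgroup.card_mul_index f.ker, Subgroup.index_ker]
    refine Nat.mul_dvd_mul ?_ ((Subgroup.card_dvd_of_le hrange).trans ?_)
    · rwa [Subgroup.card_map_of_injective (Subgroup.subtype_injective _), M.setting.2.2.2.1] at hker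
    · rw [← natCard_crossStab]; exact Subgroup.card_map_dvd _ _
  have hle : (Nat.card H).factorization 5 ≤ 1 := by
    refine le_trans ((Nat.factorization_le_iff_dvd Nat.card_pos.ne' (by norm_num)).2 hdvd 5) ?_
    rw [show (2 ^ 25 * (4096 * 244823040) : ℕ) = 5 ^ 1 * (2 ^ 25 * 200559034368) by norm_num,
      Nat.factorization_mul (by norm_num) (by norm_num), Finsupp.add_apply,
      Nat.Prime.factorization_pow (by norm_num),
      Nat.factorization_eq_zero_of_not_dvd (by norm_num)]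
    simp
  have h5' : 5 ∣ Nat.card H := by
    have := orderOf_dvd_natCard (⟨b, hb⟩ : H)
    rwa [← Subgroup.orderOf_coe, h5] at this
  have := (Nat.Prime.dvd_iff_one_le_factorization (by norm_num) Nat.card_pos.ne').1 h5'
  omega

/-- the lattice frame adapted to a conjugate and an element of order five -/
theorem exists_adapted {x : Q} (hxc : IsConj z (up x)) (hne : up x ≠ z) {b : G}
    (hb : b ∈ Subgroup.centralizer ({z} : Set G)) (hbx : b * up x = up x * b) (h5 : orderOf b = 5) :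
    ∃ g₀ : Co0, ψ (g₀ • eTop) = QuotientGroup.mk x ∧
      (QuotientGroup.mk bh5 : Cfsg.Spor.Co1) =
        (e.trans (MulAut.conj (QuotientGroup.mk g₀ : Cfsg.Spor.Co1)⁻¹)) (QuotientGroup.mk ⟨b, hb⟩) := by
  obtain ⟨v, hv, hvx⟩ := M.exists_norm64_of_conj hxc hne
  obtain ⟨g₁, rfl⟩ := exists_map (Or.inr (Or.inr rfl)) eTop v (sqNorm_bigE none) hv
  have M' := M.twist g₁
  set e' := e.trans (MulAut.conj (QuotientGroup.mk g₁ : Cfsg.Spor.Co1)⁻¹) with he'
  obtain ⟨g, hg⟩ := QuotientGroup.mk_surjective (e' (QuotientGroup.mk ⟨b, hb⟩))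
  have hgc := image_mem_cross M' hvx (a := ⟨b, hb⟩) hbx hg
  have hb5 : (⟨b, hb⟩ : Subgroup.centralizer ({z} : Set G)) ^ 5 = 1 :=
    Subtype.ext (by simp [← h5, pow_orderOf_eq_one])
  have hg5 : g ^ 5 ∈ Subgroup.center Co0 := (QuotientGroup.eq_one_iff _).1 (by
    rw [QuotientGroup.mk_pow, hg, ← map_pow, ← QuotientGroup.mk_pow, hb5, QuotientGroup.mk_one,
      map_one])
  obtain ⟨g', hg'c, hg', hg'5⟩ : ∃ g' ∈ crossStab,
      (QuotientGroup.mk g' : Cfsg.Spor.Co1) = QuotientGroup.mk g ∧ g' ^ 5 = 1 := by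
    rcases eq_of_central hg5 with h | h
    · exact ⟨g, hgc, rfl, h⟩
    · refine ⟨negEl * g, crossStab.mul_mem (monoEl_mem_crossStab _) hgc, ?_, ?_⟩
      · rw [QuotientGroup.mk_mul, (QuotientGroup.eq_one_iff negEl).2 negEl_central, one_mul]
      · have hc : Commute negEl g := (Subgroup.mem_center_iff.1 negEl_central g).symm
        have hsq : negEl * negEl = 1 := Co1Out.eq_of_sameOK
          (Co1Out.actsAs_mul Co1Out.actsAs_negEl Co1Out.actsAs_negEl) Co1Out.actsAs_one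
          (by decide +kernel)
        rw [hc.mul_pow, h, ← pow_succ, show (5 + 1 : ℕ) = 2 * 3 from rfl, pow_mul, pow_two, hsq,
          one_pow]
  have hne' : g' ≠ 1 := by
    rintro rfl
    rw [QuotientGroup.mk_one] at hg'
    have h1 : (QuotientGroup.mk ⟨b, hb⟩ : _ ⧸ Q) = 1 :=
      e'.injective ((hg'.trans hg).symm.trans (map_one e').symm)
    have h2 := eq_one_of_odd M (x := b) ⟨_, (QuotientGroup.eq_one_iff _).1 h1, rfl⟩
      (n := 5) (by decide) (h5 ▸ pow_orderOf_eq_one b)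
    rw [h2, orderOf_one] at h5
    omega
  haveI : Fact (Nat.Prime 5) := ⟨by norm_num⟩
  obtain ⟨n, hn, rfl⟩ := cross_five hg'c (orderOf_eq_prime hg'5 hne')
  refine ⟨g₁ * n, ?_, ?_⟩
  · have h1 : ψ (g₁ • (n • eTop)) = ψ (g₁ • eTop) := cross_fix M' hn
    rw [mul_smul, h1, hvx]
  · show _ = (QuotientGroup.mk (g₁ * n) : Cfsg.Spor.Co1)⁻¹ * e (QuotientGroup.mk ⟨b, hb⟩) *
      (QuotientGroup.mk (g₁ * n) : Cfsg.Spor.Co1)⁻¹⁻¹
    have h2 : (QuotientGroup.mk (n * bh5 * n⁻¹) : Cfsg.Spor.Co1) =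
        (QuotientGroup.mk g₁ : Cfsg.Spor.Co1)⁻¹ * e (QuotientGroup.mk ⟨b, hb⟩) *
        (QuotientGroup.mk g₁ : Cfsg.Spor.Co1)⁻¹⁻¹ := hg'.trans hg
    rw [QuotientGroup.mk_mul, QuotientGroup.mk_mul, QuotientGroup.mk_inv] at h2
    rw [QuotientGroup.mk_mul]
    calc (QuotientGroup.mk bh5 : Cfsg.Spor.Co1)
        = (QuotientGroup.mk n : Cfsg.Spor.Co1)⁻¹ * (QuotientGroup.mk n * QuotientGroup.mk bh5 *
          (QuotientGroup.mk n)⁻¹) * QuotientGroup.mk n := by group
      _ = _ := by rw [h2]; group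

/-- an element squaring `b` in the joint centraliser -/
theorem exists_square {x : Q} (hxc : IsConj z (up x)) (hne : up x ≠ z) {b : G}
    (hb : b ∈ Subgroup.centralizer ({z, up x} : Set G)) (h5 : orderOf b = 5) :
    ∃ d ∈ Subgroup.centralizer ({z, up x} : Set G), d * b * d⁻¹ = b ^ 2 := by
  set H := Subgroup.centralizer ({z, up x} : Set G)
  have hmem : ∀ a : G, a ∈ H ↔ a * z = z * a ∧ a * up x = up x * a := fun a => by
    rw [Subgroup.mem_centralizer_iff]
    refine ⟨fun h => ⟨(h z (Or.inl rfl)).symm, (h _ (Or.inr rfl)).symm⟩, fun h y hy => ?_⟩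
    rcases hy with rfl | rfl
    exacts [h.1.symm, h.2.symm]
  have hbz : b ∈ Subgroup.centralizer ({z} : Set G) :=
    Subgroup.mem_centralizer_singleton_iff.2 ((hmem b).1 hb).1
  obtain ⟨g₀, hgx, hgb⟩ := exists_adapted M hxc hne hbz ((hmem b).1 hb).2 h5
  have M' := M.twist g₀
  set e' := e.trans (MulAut.conj (QuotientGroup.mk g₀ : Cfsg.Spor.Co1)⁻¹)
  have hxn : x ∉ Subgroup.center Q :=
    M'.noncentral (Or.inr (Or.inr rfl)) (sqNorm_bigE none) hgx
  obtain ⟨k, hk, hkx⟩ := M'.exists_lift (g := permEl tauEl) hxn hgx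
    ((cross_fix M' (monoEl_mem_crossStab _)).trans hgx)
  have hkH : (k : G) ∈ H := (hmem _).2
    ⟨Subgroup.mem_centralizer_singleton_iff.1 k.2, mul_inv_eq_iff_eq_mul.1 hkx⟩
  let f0 : H →* Subgroup.centralizer ({z} : Set G) := H.subtype.codRestrict _ fun a =>
    Subgroup.mem_centralizer_singleton_iff.2 ((hmem a).1 a.2).1
  let f : H →* Cfsg.Spor.Co1 := (e'.toMonoidHom.comp (QuotientGroup.mk' Q)).comp f0
  set bH : H := ⟨b, hb⟩
  set kH : H := ⟨k, hkH⟩
  set β : Cfsg.Spor.Co1 := QuotientGroup.mk bh5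
  have hfb : f bH = β := hgb.symm
  have hfk : f kH = QuotientGroup.mk (permEl tauEl) := hk.symm
  haveI : Fact (Nat.Prime 5) := ⟨by norm_num⟩
  have hβ : orderOf β = 5 := by
    refine orderOf_eq_prime (by rw [← QuotientGroup.mk_pow, bh5_pow, QuotientGroup.mk_one]) ?_
    intro h
    rcases eq_of_central ((QuotientGroup.eq_one_iff _).1 h) with h' | h'
    · exact absurd (h' ▸ orderOf_bh5) (by simp)
    · have h2 := bh5_pow
      have hsq : negEl * negEl = 1 := Co1Out.eq_of_sameOK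
        (Co1Out.actsAs_mul Co1Out.actsAs_negEl Co1Out.actsAs_negEl) Co1Out.actsAs_one
        (by decide +kernel)
      rw [h', show (5 : ℕ) = 2 + 2 + 1 from rfl, pow_add, pow_add, pow_two, hsq, one_mul, one_mul,
        pow_one] at h2
      exact negEl_ne_one h2
  have hτ : f kH * β * (f kH)⁻¹ = β ^ 2 := by
    rw [hfk, ← QuotientGroup.mk_inv, ← QuotientGroup.mk_mul, ← QuotientGroup.mk_mul, tau_bh5,
      QuotientGroup.mk_pow]
  let K := (Subgroup.zpowers β).comap f
  have hb1 : bH ∈ K := Subgroup.mem_comap.2 (hfb.symm ▸ Subgroup.mem_zpowers β)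
  have hb2 : kH * bH * kH⁻¹ ∈ K := by
    refine Subgroup.mem_comap.2 ?_
    rw [map_mul, map_mul, map_inv, hfb, hτ]
    exact pow_mem (Subgroup.mem_zpowers β) 2
  have hoH : orderOf bH = 5 := by rw [← Subgroup.orderOf_coe]; exact h5
  have hK : (Nat.card K).factorization 5 = 1 := by
    have h1 : (Nat.card K).factorization 5 ≤ 1 := (joint_fact M hxc hne hb h5) ▸
      (Nat.factorization_le_iff_dvd Nat.card_pos.ne' Nat.card_pos.ne').2
        (Subgroup.card_subgroup_dvd_card K) 5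
    have h2 : 5 ∣ Nat.card K := by
      have := orderOf_dvd_natCard (⟨bH, hb1⟩ : K)
      rwa [← Subgroup.orderOf_coe, hoH] at this
    have := (Nat.Prime.dvd_iff_one_le_factorization (by norm_num) Nat.card_pos.ne').1 h2
    omega
  obtain ⟨⟨c, hc⟩, j, hcj⟩ := five_conj hK (u := (⟨_, hb2⟩ : K)) (v := ⟨bH, hb1⟩)
    (by
      rw [← Subgroup.orderOf_coe]
      show orderOf (kH * bH * kH⁻¹) = 5
      rw [show kH * bH * kH⁻¹ = MulAut.conj kH bH from rfl]
      exact (MulEquiv.orderOf_eq _ _).trans hoH)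
    (by rw [← Subgroup.orderOf_coe]; exact hoH)
  have hcj' : c * (kH * bH * kH⁻¹) * c⁻¹ = bH ^ j := congrArg Subtype.val hcj
  have hj : β ^ j = β ^ 2 := by
    obtain ⟨i, hi⟩ := Subgroup.mem_zpowers_iff.1 (hc : f c ∈ Subgroup.zpowers β)
    have h1 := congrArg f hcj'
    rw [map_mul, map_mul, map_inv, map_mul, map_mul, map_inv, map_pow, hfb, hτ, ← hi] at h1
    rw [← h1]
    have hc' : Commute (β ^ i) (β ^ 2) := ((Commute.refl β).zpow_left i).pow_right 2
    rw [hc'.eq, mul_inv_cancel_right]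
  rw [pow_eq_pow_iff_modEq, hβ] at hj
  have hbj : bH ^ j = bH ^ 2 := by rw [pow_eq_pow_iff_modEq, hoH]; exact hj
  rw [hbj] at hcj'
  refine ⟨(c : G) * k, H.mul_mem c.2 hkH, ?_⟩
  have h3 := congrArg (fun t : H => (t : G)) hcj'
  simp only [Subgroup.coe_mul, Subgroup.coe_inv, SubgroupClass.coe_pow, bH, kH] at h3
  rw [← h3]; group

/-- some element centralising `b` moves `z` to `x` -/
theorem exists_move {x : Q} (hxc : IsConj z (up x)) (hne : up x ≠ z) {b : G}
    (hb : b ∈ Subgroup.centralizer ({z, up x} : Set G)) (h5 : orderOf b = 5) :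
    ∃ g : G, g * b * g⁻¹ = b ∧ g * z * g⁻¹ = up x := by
  obtain ⟨g0, hg0⟩ := isConj_iff.1 hxc
  obtain ⟨y, hy, hye⟩ := Subgroup.mem_map.1 (M.xcent.mem_conj g0 (hg0.symm ▸ M.mem_QG x))
  obtain ⟨a, ha, rfl⟩ := hy
  let q : Q := ⟨a, ha⟩
  have hq : g0 * up q * g0⁻¹ = z := hye
  have hqz : up q ≠ z := by
    intro h
    rw [h, hg0] at hq
    exact hne hq
  have hqc : IsConj z (up q) := (isConj_iff.2 ⟨g0, hq⟩ : IsConj (up q) z).symm
  obtain ⟨h, hh, hhy⟩ := M.transitive_conjugates q x hqc hxc hqz hne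
  have hhz : h * z = z * h := Subgroup.mem_centralizer_singleton_iff.1 hh
  set w := g0 * h⁻¹ with hw
  have hwz : w * z * w⁻¹ = up x := by
    rw [hw, show g0 * h⁻¹ * z * (g0 * h⁻¹)⁻¹ = g0 * (h⁻¹ * (z * h)) * g0⁻¹ by group, ← hhz,
      inv_mul_cancel_left, hg0]
  have hwx : w * up x * w⁻¹ = z := by
    rw [hw, ← hhy, show g0 * h⁻¹ * (h * up q * h⁻¹) * (g0 * h⁻¹)⁻¹ = g0 * up q * g0⁻¹ by group, hq]
  set H := Subgroup.centralizer ({z, up x} : Set G)
  have hmem : ∀ a : G, a ∈ H ↔ a * z = z * a ∧ a * up x = up x * a := fun a => by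
    rw [Subgroup.mem_centralizer_iff]
    refine ⟨fun h => ⟨(h z (Or.inl rfl)).symm, (h _ (Or.inr rfl)).symm⟩, fun h y hy => ?_⟩
    rcases hy with rfl | rfl
    exacts [h.1.symm, h.2.symm]
  have hwb : w * b * w⁻¹ ∈ H := by
    obtain ⟨h1, h2⟩ := (hmem b).1 hb
    refine (hmem _).2 ⟨?_, ?_⟩
    · rw [← hwx]
      calc w * b * w⁻¹ * (w * up x * w⁻¹) = w * (b * up x) * w⁻¹ := by group
        _ = _ := by rw [h2]; group
    · rw [← hwz]
      calc w * b * w⁻¹ * (w * z * w⁻¹) = w * (b * z) * w⁻¹ := by group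
        _ = _ := by rw [h1]; group
  haveI : Fact (Nat.Prime 5) := ⟨by norm_num⟩
  obtain ⟨⟨c, hc⟩, j, hcj⟩ := five_conj (joint_fact M hxc hne hb h5)
    (u := (⟨_, hwb⟩ : H)) (v := ⟨b, hb⟩)
    (by
      rw [← Subgroup.orderOf_coe]
      show orderOf (w * b * w⁻¹) = 5
      rw [show w * b * w⁻¹ = MulAut.conj w b from rfl]
      exact (MulEquiv.orderOf_eq _ _).trans h5)
    (by rw [← Subgroup.orderOf_coe]; exact h5)
  have hcj' : c * (w * b * w⁻¹) * c⁻¹ = b ^ j := congrArg Subtype.val hcj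
  have hb5 : b ^ 5 = 1 := h5 ▸ pow_orderOf_eq_one b
  have hj : j % 5 ≠ 0 := by
    intro h0
    rw [pow_eq_pow_mod j hb5, h0, pow_zero, conj_eq_one_iff, conj_eq_one_iff] at hcj'
    rw [hcj', orderOf_one] at h5
    omega
  obtain ⟨d, hd, hdb⟩ := exists_square M hxc hne hb h5
  have key : ∀ i : ℕ, d ^ i * b * (d ^ i)⁻¹ = b ^ (2 ^ i) := by
    intro i
    induction i with
    | zero => simp
    | succ i ih =>
      rw [pow_succ' d, show d * d ^ i * b * (d * d ^ i)⁻¹ = d * (d ^ i * b * (d ^ i)⁻¹) * d⁻¹ by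
        group, ih, ← conj_pow, hdb, ← pow_mul, pow_succ']
  have hcases : ∀ r < 5, r ≠ 0 → ∃ i < 4, 2 ^ i * r % 5 = 1 := by decide
  obtain ⟨i, -, hi⟩ := hcases (j % 5) (Nat.mod_lt _ (by norm_num)) hj
  refine ⟨d ^ i * c * w, ?_, ?_⟩
  · rw [show d ^ i * c * w * b * (d ^ i * c * w)⁻¹ = d ^ i * (c * (w * b * w⁻¹) * c⁻¹) * (d ^ i)⁻¹ by
      group, hcj', pow_eq_pow_mod j hb5, ← conj_pow, key, ← pow_mul,
      pow_eq_pow_mod (2 ^ i * (j % 5)) hb5, hi, pow_one]
  · have hdc : d ^ i * c ∈ H := H.mul_mem (H.pow_mem hd i) hc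
    rw [show d ^ i * c * w * z * (d ^ i * c * w)⁻¹ = d ^ i * c * (w * z * w⁻¹) * (d ^ i * c)⁻¹ by
      group, hwz, ((hmem _).1 hdc).2, mul_inv_cancel_right]

end CfsgLib.Spor.Loc.Five
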